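import Groth.Agent.H16Derived.QCohD.RpushUnb
import Groth.Agent.H16Derived.KFlat.GammaDetect
import Groth.Agent.H16Derived.MVPush.Main
import Groth.Agent.H16Derived.Thomason.Adj

/-!
# Universal quasi-coherent approximation on affine schemes
-/

set_option autoImplicit false
set_option linter.style.haveILetI false
set_option linter.unusedSectionVars false
set_option backward.isDefEq.respectTransparency false

universe u

open CategoryTheory CategoryTheory.Limits AlgebraicGeometry
open DerivedCategory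

attribute [local instance] HasDerivedCategory.standard

namespace Groth.Agent.H16Derived.DQBound

open Groth.Agent.H16Derived.QCohD Groth.Agent.H16Derived.KFlat.Stalk
open Groth.Agent.H16Derived.Thomason (restrictRpushAdj)
open Groth.Agent.H10Coh

variable {X : Scheme.{u}}

/-- Vanishing of affine sections kills the homology sheaf. -/
theorem exactAt_of_affine_sections (C : CochainComplex X.Modules ℤ) (i : ℤ)
    (h : ∀ U : X.Opens, IsAffineOpen U → (((DCoh.gammaAb (U : Scheme.{u})).mapHomologicalComplex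
      (ComplexShape.up ℤ)).obj ((DCoh.restrictCx U).obj C)).ExactAt i) : C.ExactAt i := by
  rw [HomologicalComplex.exactAt_iff' _ (i - 1) i (i + 1) (by simp) (by simp)]
  refine H11Tilde.exact_of_locally _ fun W t ht x hx => ?_
  obtain ⟨_, ⟨(V : X.Opens), (hV : IsAffineOpen V), rfl⟩, hxV, hVW⟩ :=
    X.isBasis_affineOpens.exists_subset_of_mem_open hx W.2
  have hle : V.ι ''ᵁ ⊤ ≤ W := by rw [Scheme.Opens.ι_image_top]; exact hVW
  have hex := h V hV
  rw [HomologicalComplex.exactAt_iff' _ (i - 1) i (i + 1) (by simp) (by simp),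
    ShortComplex.ab_exact_iff] at hex
  refine ⟨V.ι ''ᵁ ⊤, hle, by rw [Scheme.Opens.ι_image_top]; exact hxV, ?_⟩
  obtain ⟨s, hs⟩ := hex ((C.X i).presheaf.map (homOfLE hle).op t) (by
    refine (H11Tilde.app_map_apply (C.d i (i + 1)) hle t).trans ?_
    rw [show (C.d i (i + 1)).app W t = 0 from ht]
    exact map_zero _)
  exact ⟨s, hs⟩

/-- Cohomology of affine opens bounds `K` from below. -/
theorem isGE_of_RΓ [∀ U : X.Opens, DCoh.HasRΓ (U : Scheme.{u})] (K : DCoh.D X) (a : ℤ)
    (h : ∀ U : X.Opens, IsAffineOpen U → ∀ i : ℤ, i < a →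
      IsZero ((homologyFunctor AddCommGrpCat.{u} i).obj
        ((DCoh.RΓ (U : Scheme.{u})).obj ((DCoh.restrictD U.ι).obj K)))) : K.IsGE a := by
  haveI := isGrothendieckAbelian_modules (X := X)
  obtain ⟨I, hI, ⟨e⟩⟩ := KInjRes.exists_kInjective_iso K
  haveI := hI
  refine (DerivedCategory.isGE_iff _ _).2 fun i hi => ?_
  refine IsZero.of_iso ?_ ((homologyFunctor X.Modules i).mapIso e ≪≫ (homologyFunctorFactors X.Modules i).app I)
  refine (HomologicalComplex.exactAt_iff_isZero_homology _ _).1 (exactAt_of_affine_sections I i fun U hU => ?_)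
  haveI := isKInjective_restrict U I
  refine (HomologicalComplex.exactAt_iff_isZero_homology _ _).2 ?_
  exact (h U hU i hi).of_iso (((homologyFunctorFactors AddCommGrpCat.{u} i).app _).symm ≪≫
    (homologyFunctor AddCommGrpCat.{u} i).mapIso (MVPush.rΓObjIso _ _ (MVPush.restrictObjIso U I e.symm)).symm)

section Spec

variable (R : CommRingCat.{u})

/-- `Hom(M~, I) ≅ Hom(M, Γ I)` for K-injective `I`: the counit is universal. -/
theorem bijective_counit [PreservesFiniteLimits (tilde.functor R)]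
    (I : CochainComplex (Spec R).Modules ℤ) [I.IsKInjective] (N : DerivedCategory (ModuleCat.{u} R)) :
    Function.Bijective fun φ : (DCoh.tildeD R).obj N ⟶ (DCoh.tildeD R).obj (Q.obj (ΓCx R I)) =>
      φ ≫ (tilde.functor R).mapDerivedCategoryFactors.hom.app (ΓCx R I) ≫ Q.map (counitCx R I) := by
  haveI := isKInjective_ΓCx R I
  haveI : PreservesFiniteColimits (tilde.functor R) :=
    @PreservesColimitsOfSize.preservesFiniteColimits.{0, 0} _ _ _ _ (tilde.functor R)
      ((tilde.adjunction (R := R)).leftAdjoint_preservesColimits)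
  haveI := (full_faithful R).1
  haveI := (full_faithful R).2
  let N₀ := Q.objPreimage N
  let eN : Q.obj N₀ ≅ N := Q.objObjPreimageIso N
  let F := DCoh.tildeD R
  let φF := (tilde.functor R).mapDerivedCategoryFactors
  let eT : Q.obj ((tCx R).obj N₀) ≅ F.obj N := (φF.app N₀).symm ≪≫ F.mapIso eN
  -- the composite on the level of complexes
  have key : ∀ g : N₀ ⟶ ΓCx R I, eT.hom ≫ (F.map (eN.inv ≫ Q.map g) ≫ φF.hom.app _ ≫ Q.map (counitCx R I)) =
      Q.map ((tCx R).map g ≫ counitCx R I) := fun g => by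
    have hn := φF.hom.naturality g
    simp only [eT, Iso.trans_hom, Iso.symm_hom, Iso.app_inv, Functor.mapIso_hom, Category.assoc,
      Functor.map_comp]
    rw [← F.map_comp_assoc eN.hom eN.inv, eN.hom_inv_id, CategoryTheory.Functor.map_id, Category.id_comp]
    erw [reassoc_of% hn]
    exact φF.inv_hom_id_app_assoc _ _
  refine ⟨?_, fun y => ?_⟩
  · intro φ φ' h
    obtain ⟨z, rfl⟩ := F.map_surjective φ
    obtain ⟨z', rfl⟩ := F.map_surjective φ'
    obtain ⟨g, hg⟩ := KInjRes.exists_Q_map_eq (eN.hom ≫ z)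
    obtain ⟨g', hg'⟩ := KInjRes.exists_Q_map_eq (eN.hom ≫ z')
    have e1 : z = eN.inv ≫ Q.map g := by rw [hg, eN.inv_hom_id_assoc]
    have e2 : z' = eN.inv ≫ Q.map g' := by rw [hg', eN.inv_hom_id_assoc]
    have h' : Q.map ((tCx R).map g ≫ counitCx R I) = Q.map ((tCx R).map g' ≫ counitCx R I) := by
      rw [← key, ← key, ← e1, ← e2]
      exact congrArg (eT.hom ≫ ·) h
    let a := mapHomologicalComplexAdj (tilde.adjunction (R := R)) (ComplexShape.up ℤ)
    have hh : ∀ g₀ : N₀ ⟶ ΓCx R I, a.unit.app N₀ ≫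
        ((ΓSpec R).mapHomologicalComplex (ComplexShape.up ℤ)).map ((tCx R).map g₀ ≫ counitCx R I) = g₀ := fun g₀ => by
      refine (a.homEquiv_unit _ _ _).symm.trans ((Equiv.eq_symm_apply _).1 ?_)
      refine Eq.trans ?_ (a.homEquiv_counit N₀ I g₀).symm
      rfl
    obtain ⟨H⟩ := KInjRes.nonempty_homotopy_of_Q_map_eq h'
    have H' : Homotopy ((tCx R).map g ≫ counitCx R I) ((tCx R).map g' ≫ counitCx R I) :=
      Homotopy.equivSubZero.symm H
    have e3 : Q.map g = Q.map g' := DerivedCategory.Q_map_eq_of_homotopy _ ((Homotopy.ofEq (hh g).symm).trans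
      ((((ΓSpec R).mapHomotopy H').compLeft (a.unit.app N₀)).trans (Homotopy.ofEq (hh g'))))
    rw [e1, e2, e3]
  · obtain ⟨g₀, hg₀⟩ := KInjRes.exists_Q_map_eq (eT.hom ≫ y)
    obtain ⟨g', hg'⟩ := exists_adjunct R g₀
    refine ⟨F.map (eN.inv ≫ Q.map g'), (cancel_epi eT.hom).1 ?_⟩
    exact (key g').trans ((congrArg Q.map hg').trans hg₀)

/-- `Γ` of a complex computes the cohomology of its global sections. -/
noncomputable def gammaSpecIso : ΓSpec R ⋙ forget₂ (ModuleCat.{u} R) AddCommGrpCat.{u} ≅ DCoh.gammaAb (Spec R) :=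
  Iso.refl _

/-- Bounds for `Γ I` from bounds for the global sections. -/
theorem isLE_ΓCx (I : CochainComplex (Spec R).Modules ℤ) (b : ℤ)
    (h : ∀ i, b < i → IsZero ((((DCoh.gammaAb (Spec R)).mapHomologicalComplex (ComplexShape.up ℤ)).obj I).homology i)) :
    (Q.obj (ΓCx R I)).IsLE b := by
  refine (DerivedCategory.isLE_iff _ _).2 fun i hi => IsZero.of_iso ?_ ((homologyFunctorFactors _ i).app _)
  let φ := forget₂ (ModuleCat.{u} R) AddCommGrpCat.{u}
  have hz : IsZero (φ.obj ((ΓCx R I).homology i)) := by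
    refine IsZero.of_iso (h i hi) (((ΓCx R I).sc i).mapHomologyIso φ).symm
  have hs : Subsingleton ((ΓCx R I).homology i) := AddCommGrpCat.subsingleton_of_isZero hz
  exact ModuleCat.isZero_of_iff_subsingleton.2 hs

end Spec

/-- Restricting along an isomorphism does not change global sections. -/
noncomputable def gammaRestrictIso {S : Scheme.{u}} (e : S ⟶ X) [IsOpenImmersion e]
    (he : e.opensRange = ⊤) :
    Scheme.Modules.restrictFunctor e ⋙ DCoh.gammaAb S ≅ DCoh.gammaAb X :=
  NatIso.ofComponents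
    (fun M => M.presheaf.mapIso (eqToIso ((e.image_top_eq_opensRange).trans he)).op.symm)
    (fun φ => (φ.mapPresheaf.naturality _).symm)

/-- The universal quasi-coherent object over an affine open, pushed forward from its spectrum. -/
theorem exists_affine_model [∀ U : X.Opens, DCoh.HasRΓ (U : Scheme.{u})] (K : DCoh.D X) (b : ℤ)
    (W : X.Opens)
    (h : ∀ i : ℤ, b < i → IsZero ((homologyFunctor AddCommGrpCat.{u} i).obj
        ((DCoh.RΓ (W : Scheme.{u})).obj ((DCoh.restrictD W.ι).obj K))))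
    {R : CommRingCat.{u}} (k : Spec R ⟶ X) [IsOpenImmersion k] (hk : k.opensRange = W) :
    ∃ (G : DCoh.D (Spec R)) (c : G ⟶ (rd k).obj K), DCoh.IsQCohD G ∧ G.IsLE b ∧
      ∀ Q' : DCoh.D (Spec R), DCoh.IsQCohD Q' → Function.Bijective fun φ : Q' ⟶ G => φ ≫ c := by
  haveI : PreservesFiniteLimits (tilde.functor R) := preservesFiniteLimits_tilde_of R
  haveI := isGrothendieckAbelian_modules (X := (W : Scheme.{u}))
  obtain ⟨I, hI, ⟨eI⟩⟩ := KInjRes.exists_kInjective_iso ((rd W.ι).obj K)
  haveI := hI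
  let eI' := IsOpenImmersion.isoOfRangeEq k W.ι (by
    rw [Scheme.Opens.range_ι, ← hk]; rfl)
  let e : Spec R ⟶ (W : Scheme.{u}) := eI'.hom
  have hek : e ≫ W.ι = k := IsOpenImmersion.isoOfRangeEq_hom_fac _ _ _
  haveI : IsIso e := inferInstanceAs (IsIso eI'.hom)
  have he : e.opensRange = ⊤ := Scheme.Hom.opensRange_of_isIso e
  haveI : (Scheme.Modules.pushforward eI'.hom).IsEquivalence :=
    (CategoryTheory.Equivalence.mk (Scheme.Modules.pushforward eI'.inv)
      (Scheme.Modules.pushforward eI'.hom)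
      ((Scheme.Modules.pushforwardId _).symm ≪≫
        Scheme.Modules.pushforwardCongr eI'.inv_hom_id.symm ≪≫
        (Scheme.Modules.pushforwardComp eI'.inv eI'.hom).symm)
      (Scheme.Modules.pushforwardComp eI'.hom eI'.inv ≪≫
        Scheme.Modules.pushforwardCongr eI'.hom_inv_id ≪≫
        Scheme.Modules.pushforwardId _)).isEquivalence_inverse
  haveI : (Scheme.Modules.pullback e).IsEquivalence :=
    (Scheme.Modules.pullbackPushforwardAdjunction e).isEquivalence_left_of_isEquivalence_right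
  haveI : (Scheme.Modules.restrictFunctor e).IsEquivalence :=
    Functor.isEquivalence_of_iso (Scheme.Modules.restrictFunctorIsoPullback e).symm
  haveI : (CxOX.extZero e).IsEquivalence := (CxOX.extZeroAdj e).isEquivalence_left_of_isEquivalence_right
  haveI : PreservesFiniteLimits (CxOX.extZero e) := inferInstance
  let J : CochainComplex (Spec R).Modules ℤ :=
    ((Scheme.Modules.restrictFunctor e).mapHomologicalComplex (ComplexShape.up ℤ)).obj I
  haveI : CochainComplex.IsKInjective J :=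
    ExactAdj.isKInjective_map (CxOX.extZeroAdj e) I
  let eJ : Q.obj J ≅ (rd k).obj K :=
    ((rdQ e).app I).symm ≪≫ (rd e).mapIso eI.symm ≪≫ (rdComp e W.ι k hek K).symm
  let c : (DCoh.tildeD R).obj (Q.obj (ΓCx R J)) ⟶ (rd k).obj K :=
    (tilde.functor R).mapDerivedCategoryFactors.hom.app (ΓCx R J) ≫ Q.map (counitCx R J) ≫ eJ.hom
  have hM : (Q.obj (ΓCx R J)).IsLE b := isLE_ΓCx R J b fun i hi => by
    refine IsZero.of_iso ?_ (HomologicalComplex.homologyMapIso
      ((NatIso.mapHomologicalComplex (gammaRestrictIso e he) (ComplexShape.up ℤ)).app I) i)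
    exact (h i hi).of_iso (((homologyFunctorFactors AddCommGrpCat.{u} i).app _).symm ≪≫
      (homologyFunctor AddCommGrpCat.{u} i).mapIso (MVPush.rΓObjIso _ _ eI.symm).symm)
  refine ⟨_, c, isQCohD_tildeD R _, ?_, fun Q' hQ' => ?_⟩
  · haveI := hM
    refine (DerivedCategory.isLE_iff _ _).2 fun i hi => ?_
    exact ((tilde.functor R).map_isZero (DerivedCategory.isZero_of_isLE (Q.obj (ΓCx R J)) b i hi)).of_iso
      (hdTilde _ i)
  · obtain ⟨N, ⟨eN⟩⟩ := exists_tildeD_iso R hQ'
    have hb := bijective_counit R J N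
    have e' : (fun φ : Q' ⟶ _ => φ ≫ c) = (fun z => eN.inv ≫ z ≫ eJ.hom) ∘
        (fun φ => φ ≫ (tilde.functor R).mapDerivedCategoryFactors.hom.app (ΓCx R J) ≫ Q.map (counitCx R J)) ∘
        fun φ => eN.hom ≫ φ := funext fun φ => by simp [c]
    rw [e']
    refine Function.Bijective.comp ?_ (hb.comp ?_)
    · exact ⟨fun z z' hz => (cancel_mono eJ.hom).1 ((cancel_epi eN.inv).1 hz),
        fun q => ⟨eN.hom ≫ q ≫ eJ.inv, by simp⟩⟩
    · exact ⟨fun z z' hz => (cancel_epi eN.hom).1 hz, fun q => ⟨eN.inv ≫ q, eN.hom_inv_id_assoc q⟩⟩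

end Groth.Agent.H16Derived.DQBound
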