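import Groth.Agent.H16Derived.DQBound.Affine
import Groth.Agent.LeadBrown.QCohTri

/-!
# Amplitude of the derived coherator
-/

set_option autoImplicit false
set_option linter.style.haveILetI false
set_option linter.unusedSectionVars false
set_option backward.isDefEq.respectTransparency false

universe u

open CategoryTheory CategoryTheory.Limits AlgebraicGeometry CategoryTheory.Pretriangulated
open DerivedCategory.TStructure (t)

attribute [local instance] HasDerivedCategory.standard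

namespace Groth.Agent.H16Derived.DQBound

open Groth.Agent.H16Derived.QCohD Groth.Agent.H16Derived.KFlat.Stalk
open Groth.Agent.H16Derived.Thomason (restrictRpushAdj)

theorem bijective_comp_iso {C : Type*} [Category C] {Z A B : C} (e : A ≅ B) :
    Function.Bijective fun z : Z ⟶ A => z ≫ e.hom :=
  ⟨fun _ _ h => (cancel_mono e.hom).1 h, fun q => ⟨q ≫ e.inv, by simp⟩⟩

/-- An open immersion with full range detects isomorphisms. -/
theorem isIso_of_isIso_rd_top {S X : Scheme.{u}} (e : S ⟶ X) [IsOpenImmersion e] (he : e.opensRange = ⊤)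
    {E E' : DCoh.D X} (φ : E ⟶ E') (h : IsIso ((rd e).map φ)) : IsIso φ := by
  obtain ⟨C, a, b, hT⟩ := distinguished_cocone_triangle φ
  refine (Triangle.isZero₃_iff_isIso₁ _ hT).1 (MVPush.isZero_of_hd C fun i => H17.FPExt.isZero_of_stalk _ fun x => ?_)
  have hz := (Triangle.isZero₃_iff_isIso₁ _ ((rd e).map_distinguished _ hT)).2 h
  obtain ⟨y, rfl⟩ : x ∈ e.opensRange := by rw [he]; trivial
  by_contra hne
  exact Set.eq_empty_iff_forall_notMem.1
    (Thomason.support_eq_empty_of_isZero ((DerivedCategory.homologyFunctor S.Modules i).map_isZero hz)) y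
    ((Thomason.mem_support_rd e C i y).2 hne)

/-- A fully faithful right adjoint makes the unit invertible after the left adjoint. -/
theorem isIso_map_unit_of_isIso_counit {C D : Type*} [Category C] [Category D] {F : C ⥤ D} {G : D ⥤ C}
    (adj : F ⊣ G) [IsIso adj.counit] (A : C) : IsIso (F.map (adj.unit.app A)) := by
  haveI : IsIso (F.map (adj.unit.app A) ≫ adj.counit.app (F.obj A)) := by
    rw [show F.map (adj.unit.app A) ≫ adj.counit.app (F.obj A) = 𝟙 _ from adj.left_triangle_components A]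
    infer_instance
  exact IsIso.of_isIso_comp_right _ (adj.counit.app (F.obj A))

variable {X : Scheme.{u}} [(ObjectProperty.ι (DCoh.IsQCohD (X := X))).IsLeftAdjoint]

/-- The derived coherator, as a functor to `D(O_X)`. -/
noncomputable abbrev DQ : DCoh.D X ⥤ DCoh.D X :=
  (ObjectProperty.ι (DCoh.IsQCohD (X := X))).rightAdjoint ⋙ ObjectProperty.ι _

/-- The counit. -/
noncomputable abbrev εDQ (K : DCoh.D X) : (DQ (X := X)).obj K ⟶ K :=
  (Adjunction.ofIsLeftAdjoint (ObjectProperty.ι (DCoh.IsQCohD (X := X)))).counit.app K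

theorem bijective_εDQ (K : DCoh.D X) {Q : DCoh.D X} (hQ : DCoh.IsQCohD Q) :
    Function.Bijective fun φ : Q ⟶ (DQ (X := X)).obj K => φ ≫ εDQ K := by
  let a := Adjunction.ofIsLeftAdjoint (ObjectProperty.ι (DCoh.IsQCohD (X := X)))
  let Qo : DCoh.DQCoh X := ⟨Q, hQ⟩
  have e : (fun φ : Q ⟶ (DQ (X := X)).obj K => φ ≫ εDQ K) = (a.homEquiv Qo K).symm ∘
      (ObjectProperty.fullyFaithfulι _).homEquiv.symm := funext fun φ => by
    rw [Function.comp_apply, Adjunction.homEquiv_counit]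
    exact congrArg (· ≫ a.counit.app K)
      ((ObjectProperty.fullyFaithfulι (DCoh.IsQCohD (X := X))).map_preimage (X := Qo) φ).symm
  rw [e]
  exact (a.homEquiv Qo K).symm.bijective.comp (Equiv.bijective _)

/-- A universal map from a quasi-coherent object computes the coherator. -/
theorem nonempty_DQ_iso {K G : DCoh.D X} (hG : DCoh.IsQCohD G) (c : G ⟶ K)
    (h : ∀ Q : DCoh.D X, DCoh.IsQCohD Q → Function.Bijective fun φ : Q ⟶ G => φ ≫ c) :
    Nonempty ((DQ (X := X)).obj K ≅ G) := by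
  have hD : DCoh.IsQCohD ((DQ (X := X)).obj K) :=
    ((ObjectProperty.ι (DCoh.IsQCohD (X := X))).rightAdjoint.obj K).property
  obtain ⟨p, hp⟩ := (h _ hD).2 (εDQ K)
  obtain ⟨q, hq⟩ := (bijective_εDQ K hG).2 c
  refine ⟨⟨p, q, (bijective_εDQ K hD).1 ?_, (h G hG).1 ?_⟩⟩
  · show (p ≫ q) ≫ εDQ K = 𝟙 _ ≫ εDQ K
    exact (Category.assoc _ _ _).trans ((congrArg (p ≫ ·) hq).trans (hp.trans (Category.id_comp _).symm))
  · show (q ≫ p) ≫ c = 𝟙 _ ≫ c
    exact (Category.assoc _ _ _).trans ((congrArg (q ≫ ·) hp).trans (hq.trans (Category.id_comp _).symm))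

/-- The coherator keeps lower bounds. -/
theorem isGE_DQ (K : DCoh.D X) (a : ℤ) [K.IsGE a] : ((DQ (X := X)).obj K).IsGE a := by
  have hD : DCoh.IsQCohD ((DQ (X := X)).obj K) :=
    ((ObjectProperty.ι (DCoh.IsQCohD (X := X))).rightAdjoint.obj K).property
  let τ := (t.truncLT a).obj ((DQ (X := X)).obj K)
  let v : τ ⟶ (DQ (X := X)).obj K := (t.truncLTι a).app _
  have hτ : DCoh.IsQCohD τ := homP_truncLT Coh.IsQCoh isQCoh_iso isQCoh_isZero hD a
  haveI : t.IsLE τ (a - 1) := t.isLE_truncLT_obj _ a (a - 1) (by omega)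
  have hv : v = 0 := by
    refine (bijective_εDQ K hτ).1 ?_
    show v ≫ εDQ K = 0 ≫ εDQ K
    rw [zero_comp]
    exact t.zero _ (a - 1) a (by omega)
  refine (DerivedCategory.isGE_iff _ _).2 fun i hi => ?_
  haveI := DTrunc.isIso_homology_truncLTι ((DQ (X := X)).obj K) a i hi
  have h0 : (DerivedCategory.homologyFunctor X.Modules i).map ((t.truncLTι a).app ((DQ (X := X)).obj K)) = 0 :=
    (congrArg _ hv).trans (Functor.map_zero _ _ _)
  rw [IsZero.iff_id_eq_zero, ← cancel_epi ((DerivedCategory.homologyFunctor X.Modules i).map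
    ((t.truncLTι a).app ((DQ (X := X)).obj K))), h0, zero_comp, zero_comp]

/-- Upper bounds pass through triangles. -/
theorem isLE_obj₁ {A B C : DCoh.D X} {f : A ⟶ B} {g : B ⟶ C} {w : C ⟶ A⟦(1 : ℤ)⟧}
    (hT : Triangle.mk f g w ∈ distTriang (DCoh.D X)) (n : ℤ) [B.IsLE n] (hC : C.IsLE (n - 1)) : A.IsLE n := by
  refine (DerivedCategory.isLE_iff _ _).2 fun i hi => ?_
  haveI := hC
  exact (DerivedCategory.HomologySequence.exact₁ _ hT (i - 1) i (by omega)).isZero_of_both_zeros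
    ((DerivedCategory.isZero_of_isLE C (n - 1) (i - 1) (by omega)).eq_of_src _ _)
    ((DerivedCategory.isZero_of_isLE B n i hi).eq_of_tgt _ _)

theorem isLE_mono {A : DCoh.D X} {m n : ℤ} [A.IsLE m] (h : m ≤ n) : A.IsLE n := t.isLE_of_le A m n h

theorem isLE_biprod {A B : DCoh.D X} (n : ℤ) [A.IsLE n] [B.IsLE n] : (A ⊞ B).IsLE n := by
  refine (DerivedCategory.isLE_iff _ _).2 fun i hi => ?_
  haveI := preservesBinaryBiproducts_of_preservesBiproducts (DerivedCategory.homologyFunctor X.Modules i)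
  exact IsZero.of_iso ((biprod_isZero_iff _ _).2
      ⟨DerivedCategory.isZero_of_isLE A n i hi, DerivedCategory.isZero_of_isLE B n i hi⟩)
    ((DerivedCategory.homologyFunctor X.Modules i).mapBiprod A B)

variable (X) in
/-- The coherator of complexes pushed forward from `W` has amplitude bounded above. -/
def Good [∀ U : X.Opens, DCoh.HasRΓ (U : Scheme.{u})] (W : X.Opens) : Prop :=
  ∀ (S : Scheme.{u}) (j : S ⟶ X) [IsOpenImmersion j] [DCoh.HasRpush j], j.opensRange = W →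
    ∃ N : ℕ, ∀ (K : DCoh.D X) (b : ℤ),
      (∀ U : X.Opens, IsAffineOpen U → ∀ i : ℤ, b < i → IsZero ((DerivedCategory.homologyFunctor AddCommGrpCat.{u} i).obj
          ((DCoh.RΓ (U : Scheme.{u})).obj ((DCoh.restrictD U.ι).obj K)))) →
      ((DQ (X := X)).obj ((DCoh.Rpush j).obj ((rd j).obj K))).IsLE (b + N)

variable [CompactSpace X] [QuasiSeparatedSpace X] [∀ U : X.Opens, DCoh.HasRΓ (U : Scheme.{u})]

theorem good_affine {W : X.Opens} (hW : IsAffineOpen W) : Good X W := by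
  intro S j hj hR hjW
  haveI : IsAffine S := by
    haveI : IsAffine (W : Scheme.{u}) := hW
    exact IsAffine.of_isIso (IsOpenImmersion.isoOfRangeEq j W.ι (by
      rw [Scheme.Opens.range_ι, ← hjW]; rfl)).hom
  let e : Spec Γ(S, ⊤) ⟶ S := S.isoSpec.inv
  haveI := hasRpush e
  haveI : CompactSpace S := isCompact_univ_iff.1 (isAffineOpen_top S).isCompact
  haveI : QuasiCompact j := (quasiCompact_iff_compactSpace j).2 inferInstance
  haveI : QuasiSeparated j := inferInstance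
  obtain ⟨N, hN⟩ := exists_bound j
  obtain ⟨M, hM⟩ := exists_bound e
  refine ⟨M + N, fun K b hb => ?_⟩
  have hk : (e ≫ j).opensRange = W := by
    rw [← hjW]
    refine TopologicalSpace.Opens.ext ?_
    show Set.range (e ≫ j).base = Set.range j.base
    simp [Set.range_comp]
  obtain ⟨G₀, c₀, hq, hle, huniv⟩ := exists_affine_model K b W (hb W hW) (e ≫ j) hk
  let ae := restrictRpushAdj e
  let aj := restrictRpushAdj j
  haveI : IsIso (ae.unit.app ((rd j).obj K)) := by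
    haveI := Thomason.isIso_restrictRpushAdj_counit e
    refine isIso_of_isIso_rd_top e (Scheme.Hom.opensRange_of_isIso e) _ ?_
    exact isIso_map_unit_of_isIso_counit ae _
  let c₁ : (DCoh.Rpush e).obj G₀ ⟶ (rd j).obj K :=
    (DCoh.Rpush e).map (c₀ ≫ (rdComp e j (e ≫ j) rfl K).hom) ≫ inv (ae.unit.app ((rd j).obj K))
  have hG₁ : DCoh.IsQCohD ((DCoh.Rpush e).obj G₀) := isQCohD_rpush e hq
  have hu₁ : ∀ Q : DCoh.D S, DCoh.IsQCohD Q →
      Function.Bijective fun φ : Q ⟶ (DCoh.Rpush e).obj G₀ => φ ≫ c₁ := fun Q hQ => by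
    have e' : (fun φ : Q ⟶ (DCoh.Rpush e).obj G₀ => φ ≫ c₁) =
        (fun z => z ≫ inv (ae.unit.app ((rd j).obj K))) ∘ (ae.homEquiv Q _) ∘
          (fun ψ => ψ ≫ (rdComp e j (e ≫ j) rfl K).hom) ∘ (fun ψ => ψ ≫ c₀) ∘ (ae.homEquiv Q G₀).symm := by
      funext φ
      simp only [Function.comp_apply, Category.assoc]
      rw [Adjunction.homEquiv_naturality_right, Equiv.apply_symm_apply, Category.assoc]
    rw [e']
    exact (bijective_comp_iso (asIso (ae.unit.app ((rd j).obj K))).symm).comp ((Equiv.bijective _).comp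
      ((bijective_comp_iso (rdComp e j (e ≫ j) rfl K)).comp ((huniv _ (isQCohD_rd e hQ)).comp (Equiv.bijective _))))
  have hu₂ : ∀ Q : DCoh.D X, DCoh.IsQCohD Q → Function.Bijective fun φ : Q ⟶ (DCoh.Rpush j).obj
      ((DCoh.Rpush e).obj G₀) => φ ≫ (DCoh.Rpush j).map c₁ := fun Q hQ => by
    have e' : (fun φ : Q ⟶ (DCoh.Rpush j).obj ((DCoh.Rpush e).obj G₀) => φ ≫ (DCoh.Rpush j).map c₁) =
        (aj.homEquiv Q _) ∘ (fun ψ => ψ ≫ c₁) ∘ (aj.homEquiv Q _).symm := by
      funext φ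
      simp only [Function.comp_apply]
      rw [Adjunction.homEquiv_naturality_right, Equiv.apply_symm_apply]
    rw [e']
    exact (Equiv.bijective _).comp ((hu₁ _ (isQCohD_rd j hQ)).comp (Equiv.bijective _))
  obtain ⟨i⟩ := nonempty_DQ_iso (isQCohD_rpush j hG₁) _ hu₂
  haveI := hle
  haveI : ((DCoh.Rpush e).obj G₀).IsLE (b + M) :=
    (DerivedCategory.isLE_iff _ _).2 fun m hm => isZero_rpush_of_isLE e hM G₀ hq b m (by omega)
  haveI : ((DCoh.Rpush j).obj ((DCoh.Rpush e).obj G₀)).IsLE (b + (M + N : ℕ)) :=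
    (DerivedCategory.isLE_iff _ _).2 fun m hm =>
      isZero_rpush_of_isLE j hN _ hG₁ (b + M) m (by push_cast at hm; omega)
  exact t.isLE_of_iso i.symm _

/-- The Mayer–Vietoris step. -/
theorem good_sup {U V : X.Opens} (hU : Good X U) (hV : Good X V) (hUV : Good X (U ⊓ V)) : Good X (U ⊔ V) := by
  intro S j hj hR hjW
  let U' := j ⁻¹ᵁ U
  let V' := j ⁻¹ᵁ V
  have hc : U' ⊔ V' = ⊤ := by
    show j ⁻¹ᵁ U ⊔ j ⁻¹ᵁ V = ⊤
    rw [← Scheme.Hom.preimage_sup, ← hjW]
    exact eq_top_iff.2 fun x _ => ⟨x, rfl⟩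
  have hr : ∀ (W : X.Opens), W ≤ U ⊔ V → ((j ⁻¹ᵁ W).ι ≫ j).opensRange = W := fun W hW => by
    rw [Scheme.Hom.opensRange_comp, Scheme.Opens.opensRange_ι, Scheme.Hom.image_preimage_eq_opensRange_inf,
      hjW, inf_eq_right.2 hW]
  haveI := hasRpush (U'.ι ≫ j)
  haveI := hasRpush (V'.ι ≫ j)
  haveI := hasRpush ((U' ⊓ V').ι ≫ j)
  obtain ⟨n₁, h₁⟩ := hU _ (U'.ι ≫ j) (hr U le_sup_left)
  obtain ⟨n₂, h₂⟩ := hV _ (V'.ι ≫ j) (hr V le_sup_right)
  obtain ⟨n₃, h₃⟩ := hUV _ ((U' ⊓ V').ι ≫ j) (hr (U ⊓ V) (inf_le_left.trans le_sup_left))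
  refine ⟨max (max n₁ n₂) (n₃ + 1), fun K b hb => ?_⟩
  obtain ⟨a, g, w, hT⟩ := MVPush.exists_triangle_rpush_rel U' V' hc ((rd j).obj K) j
  let ι' := ObjectProperty.ι (DCoh.IsQCohD (X := X))
  let adj := Adjunction.ofIsLeftAdjoint ι'
  letI : ι'.rightAdjoint.CommShift ℤ := adj.rightAdjointCommShift ℤ
  haveI : adj.CommShift ℤ := adj.commShift_of_leftAdjoint ℤ
  haveI : ι'.rightAdjoint.IsTriangulated := adj.isTriangulated_rightAdjoint
  have hT' := (DQ (X := X)).map_distinguished _ hT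
  haveI := preservesBinaryBiproducts_of_preservesBiproducts (DQ (X := X))
  let M : ℤ := b + ((max (max n₁ n₂) (n₃ + 1) : ℕ) : ℤ)
  have step : ∀ (P : S.Opens) (hPr : DCoh.HasRpush (P.ι ≫ j)) (n : ℕ) (m : ℤ), b + n ≤ m →
      ((DQ (X := X)).obj ((DCoh.Rpush (P.ι ≫ j)).obj ((rd (P.ι ≫ j)).obj K))).IsLE (b + n) →
      ((DQ (X := X)).obj ((DCoh.Rpush (P.ι ≫ j)).obj ((DCoh.restrictD P.ι).obj ((rd j).obj K)))).IsLE m :=
    fun P hPr n m hm h => by
      haveI := h
      haveI := isLE_mono (A := ((DQ (X := X)).obj ((DCoh.Rpush (P.ι ≫ j)).obj ((rd (P.ι ≫ j)).obj K)))) hm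
      exact t.isLE_of_iso ((DQ (X := X)).mapIso ((DCoh.Rpush (P.ι ≫ j)).mapIso (rdComp P.ι j (P.ι ≫ j) rfl K))) m
  haveI := step U' ‹_› n₁ M (by omega) (h₁ K b hb)
  haveI := step V' ‹_› n₂ M (by omega) (h₂ K b hb)
  haveI := isLE_biprod (A := (DQ (X := X)).obj ((DCoh.Rpush (U'.ι ≫ j)).obj ((DCoh.restrictD U'.ι).obj ((rd j).obj K))))
    (B := (DQ (X := X)).obj ((DCoh.Rpush (V'.ι ≫ j)).obj ((DCoh.restrictD V'.ι).obj ((rd j).obj K)))) M
  haveI : ((DQ (X := X)).obj ((DCoh.Rpush (U'.ι ≫ j)).obj ((DCoh.restrictD U'.ι).obj ((rd j).obj K)) ⊞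
      (DCoh.Rpush (V'.ι ≫ j)).obj ((DCoh.restrictD V'.ι).obj ((rd j).obj K)))).IsLE M :=
    t.isLE_of_iso ((DQ (X := X)).mapBiprod _ _).symm M
  haveI : ((DQ (X := X)).obj (Triangle.mk a g w).obj₂).IsLE M := by assumption
  exact isLE_obj₁ (B := (DQ (X := X)).obj (Triangle.mk a g w).obj₂) hT' M (step (U' ⊓ V') ‹_› n₃ (M - 1) (by omega) (h₃ K b hb))

theorem isAffineOpen_inf_of_le {A U T : X.Opens} (hA : IsAffineOpen A) (hU : IsAffineOpen U) (hT : IsAffineOpen T)
    (hUA : U ≤ A) (hTA : T ≤ A) : IsAffineOpen (U ⊓ T) := by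
  haveI : IsAffine (A : Scheme.{u}) := hA
  have pull : ∀ V : X.Opens, IsAffineOpen V → V ≤ A → IsAffineOpen (A.ι ⁻¹ᵁ V) := fun V hV hVA => by
    rw [← A.ι.isAffineOpen_iff_of_isOpenImmersion, Scheme.Hom.image_preimage_eq_opensRange_inf,
      Scheme.Opens.opensRange_ι, inf_eq_right.2 hVA]
    exact hV
  have h := (pull U hU hUA).inf (pull T hT hTA)
  rw [← A.ι.isAffineOpen_iff_of_isOpenImmersion, ← Scheme.Hom.preimage_inf,
    Scheme.Hom.image_preimage_eq_opensRange_inf, Scheme.Opens.opensRange_ι,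
    inf_eq_right.2 (inf_le_left.trans hUA)] at h
  exact h

theorem good_inter {A : X.Opens} (hA : IsAffineOpen A) {W : X.Opens} (hW : IsCompact (W : Set X)) (hWA : W ≤ A) :
    Good X W := by
  suffices h : W ≤ A → ∀ T : X.Opens, IsAffineOpen T → T ≤ A → Good X (W ⊓ T) by
    simpa [inf_eq_left.2 hWA] using h hWA A hA le_rfl
  refine compact_open_induction_on (P := fun W => W ≤ A → ∀ T : X.Opens, IsAffineOpen T → T ≤ A → Good X (W ⊓ T))
    W hW (fun _ T _ _ => ?_) (fun W' _ U hP hle T hT hTA => ?_)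
  · rw [bot_inf_eq]
    exact good_affine (isAffineOpen_bot X)
  · have hUT : IsAffineOpen (U.1 ⊓ T) := isAffineOpen_inf_of_le hA U.2 hT (le_sup_right.trans hle) hTA
    have hW' := hP (le_sup_left.trans hle)
    rw [inf_sup_right]
    refine good_sup (hW' T hT hTA) (good_affine hUT) ?_
    rw [show W' ⊓ T ⊓ (U.1 ⊓ T) = W' ⊓ (U.1 ⊓ T) by rw [inf_comm U.1 T, inf_assoc, ← inf_assoc T T, inf_idem]]
    exact hW' _ hUT (inf_le_right.trans hTA)

theorem good_all {W : X.Opens} (hW : IsCompact (W : Set X)) : Good X W := by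
  refine compact_open_induction_on (P := Good X) W hW (good_affine (isAffineOpen_bot X)) fun S hS U hP => ?_
  exact good_sup hP (good_affine U.2)
    (good_inter U.2 (QuasiSeparatedSpace.inter_isCompact _ _ S.2 hS U.1.2 U.2.isCompact) inf_le_right)

/-- The coherator has bounded amplitude. -/
theorem exists_bound_DQ : ∃ N : ℕ, ∀ (K : DCoh.D X) (b : ℤ),
    (∀ U : X.Opens, IsAffineOpen U → ∀ i : ℤ, b < i → IsZero ((DerivedCategory.homologyFunctor AddCommGrpCat.{u} i).obj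
        ((DCoh.RΓ (U : Scheme.{u})).obj ((DCoh.restrictD U.ι).obj K)))) →
    ((DQ (X := X)).obj K).IsLE (b + N) := by
  haveI := hasRpush (𝟙 X)
  obtain ⟨N, hN⟩ := good_all (X := X) (W := ⊤) isCompact_univ X (𝟙 X) (Scheme.Hom.opensRange_of_isIso _)
  refine ⟨N, fun K b hb => ?_⟩
  let a := restrictRpushAdj (𝟙 X)
  haveI : IsIso (a.unit.app K) := by
    haveI := Thomason.isIso_restrictRpushAdj_counit (𝟙 X)
    exact isIso_of_isIso_rd_top (𝟙 X) (Scheme.Hom.opensRange_of_isIso _) _ (isIso_map_unit_of_isIso_counit a K)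
  have h : t.IsLE ((DQ (X := X)).obj ((DCoh.Rpush (𝟙 X)).obj ((rd (𝟙 X)).obj K))) (b + N) := hN K b hb
  exact @Triangulated.TStructure.isLE_of_iso _ _ _ _ _ _ _ t _ _ ((DQ (X := X)).mapIso (asIso (a.unit.app K))).symm _ h

end Groth.Agent.H16Derived.DQBound
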